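import Mathlib

/-!
# The theorem of Eakin and Nagata, after Formanek
-/

set_option autoImplicit false
universe u v

namespace GrothLib.EakinNagata

/-- A finite faithful module all of whose quotients by `a M`, `a ≠ 0`, are Noetherian forces a Noetherian ring. -/
theorem isNoetherianRing_of_forall_quotient {R : Type u} {M : Type v} [CommRing R] [AddCommGroup M] [Module R M]
    [Module.Finite R M] (hf : ∀ a : R, (∀ x : M, a • x = 0) → a = 0)
    (h : ∀ a : R, a ≠ 0 → IsNoetherian R (M ⧸ LinearMap.range (DistribSMul.toLinearMap R M a))) :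
    IsNoetherianRing R := by
  classical
  let F : Set (Submodule R M) := {N | ∀ a : R, (∀ x : M, a • x ∈ N) → a = 0}
  obtain ⟨N, -, hN⟩ := zorn_le_nonempty₀ F (fun c hc hchain y hy => by
    refine ⟨sSup c, fun a ha => ?_, fun z hz => le_sSup hz⟩
    obtain ⟨s, hs⟩ := (inferInstance : Module.Finite R M).fg_top
    have hdir : DirectedOn (· ≤ ·) c := hchain.directedOn
    have hcover : ∀ t : Finset M, (∀ x ∈ t, a • x ∈ sSup c) → ∃ z ∈ c, ∀ x ∈ t, a • x ∈ z := by
      intro t
      induction t using Finset.induction_on with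
      | empty => exact fun _ => ⟨y, hy, by simp⟩
      | insert x t _ ih =>
        intro ht
        obtain ⟨z₁, hz₁, hz₁'⟩ := ih fun w hw => ht w (Finset.mem_insert_of_mem hw)
        obtain ⟨z₂, hz₂, hz₂'⟩ := (Submodule.mem_sSup_of_directed ⟨y, hy⟩ hdir).1 (ht x (Finset.mem_insert_self x t))
        obtain ⟨z, hz, h1, h2⟩ := hdir z₁ hz₁ z₂ hz₂
        refine ⟨z, hz, fun w hw => ?_⟩
        rcases Finset.mem_insert.1 hw with rfl | hw
        · exact h2 hz₂'
        · exact h1 (hz₁' w hw)
    obtain ⟨z, hz, hz'⟩ := hcover s fun x _ => ha x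
    refine hc hz a fun x => ?_
    have hx : x ∈ Submodule.span R (s : Set M) := hs ▸ Submodule.mem_top
    induction hx using Submodule.span_induction with
    | mem w hw => exact hz' w hw
    | zero => rw [smul_zero]; exact zero_mem _
    | add w w' _ _ h h' => rw [smul_add]; exact add_mem h h'
    | smul r w _ h => rw [smul_comm]; exact z.smul_mem r h) (⊥ : Submodule R M)
    (fun a ha => hf a fun x => (Submodule.mem_bot R).1 (ha x))
  haveI hM' : IsNoetherian R (M ⧸ N) := by
    rw [isNoetherian_def]
    intro L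
    rcases eq_or_ne L ⊥ with rfl | hL
    · exact Submodule.fg_bot
    have hlt : N < L.comap N.mkQ := by
      refine lt_of_le_of_ne (Submodule.le_comap_mkQ N L) fun he => hL ?_
      rw [← Submodule.map_comap_eq_of_surjective N.mkQ_surjective L, ← he, Submodule.mkQ_map_self]
    obtain ⟨a, ha, ha0⟩ : ∃ a : R, (∀ x : M, a • x ∈ L.comap N.mkQ) ∧ a ≠ 0 := by
      by_contra hc
      push Not at hc
      exact hlt.not_ge (hN.2 hc hlt.le)
    haveI := h a ha0
    let K : Submodule R (M ⧸ N) := LinearMap.range (DistribSMul.toLinearMap R (M ⧸ N) a)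
    have hKfg : K.FG := by
      show (LinearMap.range _).FG
      rw [LinearMap.range_eq_map]
      exact (Module.Finite.fg_top).map _
    have hKL : K ≤ L := by
      rintro _ ⟨x, rfl⟩
      obtain ⟨x, rfl⟩ := N.mkQ_surjective x
      show a • N.mkQ x ∈ L
      rw [← map_smul]
      exact ha x
    haveI : IsNoetherian R ((M ⧸ N) ⧸ K) := by
      refine isNoetherian_of_surjective (Submodule.mapQ (LinearMap.range (DistribSMul.toLinearMap R M a)) K N.mkQ ?_) ?_
      · rintro _ ⟨x, rfl⟩
        exact ⟨N.mkQ x, (map_smul N.mkQ a x).symm⟩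
      · rw [Submodule.range_mapQ, Submodule.range_mkQ, Submodule.map_top, Submodule.range_mkQ]
    refine Submodule.fg_of_fg_map_of_fg_inf_ker K.mkQ (IsNoetherian.noetherian _) ?_
    rwa [Submodule.ker_mkQ, inf_eq_right.2 hKL]
  obtain ⟨s, hs⟩ := (inferInstance : Module.Finite R M).fg_top
  let φ : R →ₗ[R] (s → M ⧸ N) := LinearMap.pi fun x => LinearMap.toSpanSingleton R (M ⧸ N) (N.mkQ x)
  have hφ : Function.Injective φ := by
    rw [injective_iff_map_eq_zero]
    intro a ha
    refine hN.1 a fun x => ?_
    have hx : x ∈ Submodule.span R (s : Set M) := hs ▸ Submodule.mem_top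
    induction hx using Submodule.span_induction with
    | mem w hw =>
      have := congrFun ha ⟨w, hw⟩
      rw [← Submodule.Quotient.mk_eq_zero, Submodule.Quotient.mk_smul]
      exact this
    | zero => rw [smul_zero]; exact zero_mem _
    | add w w' _ _ h h' => rw [smul_add]; exact add_mem h h'
    | smul r w _ h => rw [smul_comm]; exact N.smul_mem r h
  exact isNoetherian_of_injective φ hφ

/-- **Eakin–Nagata**. -/
theorem isNoetherianRing_of_finite (R : Type u) (A : Type v) [CommRing R] [CommRing A] [Algebra R A]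
    [Module.Finite R A] [IsNoetherianRing A] (hinj : Function.Injective (algebraMap R A)) : IsNoetherianRing R := by
  classical
  suffices hA : IsNoetherian R A from
    isNoetherian_of_injective (Algebra.linearMap R A) hinj
  by_contra hA
  let S : Set (Ideal A) := {J | (∃ I : Ideal R, J = I.map (algebraMap R A)) ∧ ¬ IsNoetherian R (A ⧸ J)}
  have hS : S.Nonempty := ⟨⊥, ⟨⊥, Ideal.map_bot.symm⟩, fun h =>
    hA (isNoetherian_of_linearEquiv (AlgEquiv.quotientBot R A).toLinearEquiv)⟩
  obtain ⟨J, ⟨⟨I, rfl⟩, hJ⟩, hmax⟩ := set_has_maximal_iff_noetherian.2 (inferInstance : IsNoetherian A A) S hS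
  let p : Ideal R := (I.map (algebraMap R A)).comap (algebraMap R A)
  let J := I.map (algebraMap R A)
  letI : Algebra (R ⧸ p) (A ⧸ J) := (Ideal.quotientMap J (algebraMap R A) le_rfl).toAlgebra
  haveI : IsScalarTower R (R ⧸ p) (A ⧸ J) := .of_algebraMap_eq fun x => rfl
  haveI : Module.Finite (R ⧸ p) (A ⧸ J) := Module.Finite.of_restrictScalars_finite R _ _
  haveI : IsNoetherianRing (R ⧸ p) := by
    refine isNoetherianRing_of_forall_quotient (M := A ⧸ J) (fun a ha => ?_) fun a ha => ?_
    · obtain ⟨a, rfl⟩ := Ideal.Quotient.mk_surjective a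
      have h1 : algebraMap (R ⧸ p) (A ⧸ J) (Ideal.Quotient.mk p a) = 0 := by
        rw [Algebra.algebraMap_eq_smul_one]; exact ha 1
      refine Ideal.Quotient.eq_zero_iff_mem.2 (show algebraMap R A a ∈ J from ?_)
      exact (Ideal.Quotient.eq_zero_iff_mem (I := J)).1 h1
    · obtain ⟨a, rfl⟩ := Ideal.Quotient.mk_surjective a
      let J' : Ideal A := (I ⊔ Ideal.span {a}).map (algebraMap R A)
      have hnoeth : IsNoetherian R (A ⧸ J') := by
        by_contra hc
        refine hmax J' ⟨⟨_, rfl⟩, hc⟩ (lt_of_le_of_ne (Ideal.map_mono le_sup_left) fun he => ha ?_)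
        refine Ideal.Quotient.eq_zero_iff_mem.2 (show algebraMap R A a ∈ J from ?_)
        show algebraMap R A a ∈ I.map (algebraMap R A)
        rw [he]
        exact Ideal.mem_map_of_mem _ (Ideal.mem_sup_right (Ideal.mem_span_singleton_self a))
      let L := LinearMap.range (DistribSMul.toLinearMap (R ⧸ p) (A ⧸ J) (Ideal.Quotient.mk p a))
      let ψ : A →ₗ[R] (A ⧸ J) ⧸ L := (L.mkQ.restrictScalars R).comp (Ideal.Quotient.mkₐ R J).toLinearMap
      haveI : IsNoetherian R ((A ⧸ J) ⧸ L) := by
        refine isNoetherian_of_surjective ((J'.restrictScalars R).liftQ ψ ?_ ∘ₗ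
          (Submodule.Quotient.restrictScalarsEquiv R J').symm.toLinearMap) ?_
        · intro y hy
          have hy' : y ∈ J ⊔ Ideal.span {algebraMap R A a} := by
            rw [← Set.image_singleton, ← Ideal.map_span, ← Ideal.map_sup]
            exact hy
          obtain ⟨u, hu, v, hv, rfl⟩ := Submodule.mem_sup.1 hy'
          obtain ⟨b, rfl⟩ := Ideal.mem_span_singleton'.1 hv
          show L.mkQ (Ideal.Quotient.mk J (u + b * algebraMap R A a)) = 0
          rw [Submodule.mkQ_apply, Submodule.Quotient.mk_eq_zero, map_add, Ideal.Quotient.eq_zero_iff_mem.2 hu,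
            zero_add, map_mul]
          exact ⟨Ideal.Quotient.mk J b, (Algebra.smul_def _ _).trans (mul_comm _ _)⟩
        · rw [LinearMap.range_eq_top]
          intro x
          obtain ⟨x, rfl⟩ := L.mkQ_surjective x
          obtain ⟨x, rfl⟩ := Ideal.Quotient.mk_surjective x
          exact ⟨Submodule.Quotient.mk x, rfl⟩
      exact isNoetherian_of_tower R inferInstance
  haveI : IsNoetherian (R ⧸ p) (A ⧸ J) := isNoetherian_of_isNoetherianRing_of_finite _ _
  refine hJ ((isNoetherian_def).2 fun N => ?_)
  let N' : Submodule (R ⧸ p) (A ⧸ J) :=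
    { carrier := N
      add_mem' := fun ha hb => N.add_mem ha hb
      zero_mem' := N.zero_mem
      smul_mem' := fun c x hx => by
        obtain ⟨c, rfl⟩ := Ideal.Quotient.mk_surjective c
        rw [← Ideal.Quotient.algebraMap_eq, algebraMap_smul]
        exact N.smul_mem c hx }
  obtain ⟨s, hs⟩ := IsNoetherian.noetherian N'
  refine ⟨s, ?_⟩
  rw [← Submodule.restrictScalars_span R (R ⧸ p) Ideal.Quotient.mk_surjective, hs]
  rfl

end GrothLib.EakinNagata
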